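import Groth.Agent.S10888
import Groth.Prelude.Def_FGA
import Groth.Prelude.Def_Flatn
import Mathlib.AlgebraicGeometry.Morphisms.FlatDescent

/-!
# The scheme of morphisms as an open subscheme of the Hilbert scheme
-/

set_option autoImplicit false
set_option linter.style.haveILetI false

universe u

open CategoryTheory CategoryTheory.Limits AlgebraicGeometry

namespace Groth.Agent.Lib.MorHilb53

/-- The locus of the base over which a morphism of flat proper schemes is an isomorphism. -/
theorem exists_isoLocus {A B H : Scheme.{u}} (f : A ⟶ B) (h : B ⟶ H)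
    [IsProper (f ≫ h)] [LocallyOfFinitePresentation (f ≫ h)] [Flat (f ≫ h)]
    [IsProper h] [LocallyOfFinitePresentation h] :
    ∃ U : H.Opens, ∀ {A' B' T : Scheme.{u}} (a : A' ⟶ A) (f' : A' ⟶ B') (b : B' ⟶ B) (h' : B' ⟶ T)
      (g : T ⟶ H), IsPullback a f' f b → IsPullback b h' h g →
      (Set.range g ⊆ (U : Set H) ↔ IsIso f') := by
  obtain ⟨U, hU, hiso⟩ := Groth.Agent.S10888.result (f ≫ h) h f rfl
  refine ⟨U, fun {A' B' T} a f' b h' g sqA sqB => ⟨fun hg => ?_, fun hf => ?_⟩⟩
  · let b₀ : B' ⟶ (↑(h ⁻¹ᵁ U) : Scheme.{u}) := IsOpenImmersion.lift (h ⁻¹ᵁ U).ι b (by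
      rw [Scheme.Opens.range_ι]
      rintro _ ⟨y, rfl⟩
      show h (b y) ∈ U
      rw [← Scheme.Hom.comp_apply, sqB.w, Scheme.Hom.comp_apply]
      exact hg ⟨h' y, rfl⟩)
    have hb₀ : b₀ ≫ (h ⁻¹ᵁ U).ι = b := IsOpenImmersion.lift_fac _ _ _
    have sqU := (isPullback_morphismRestrict f (h ⁻¹ᵁ U)).flip
    let a₀ : A' ⟶ ↑(f ⁻¹ᵁ (h ⁻¹ᵁ U)) := sqU.lift a (f' ≫ b₀) (by rw [Category.assoc, hb₀]; exact sqA.w)
    have sq : IsPullback a₀ f' (f ∣_ (h ⁻¹ᵁ U)) b₀ :=
      IsPullback.of_right (by rw [show a₀ ≫ _ = a from sqU.lift_fst _ _ _, hb₀]; exact sqA)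
        (sqU.lift_snd _ _ _) sqU
    exact MorphismProperty.of_isPullback (P := MorphismProperty.isomorphisms Scheme.{u}) sq hiso
  · rintro _ ⟨t, rfl⟩
    refine (hU _).2 ?_
    let k := H.fromSpecResidueField (g t)
    let φ : (f ≫ h).fiber (g t) ⟶ h.fiber (g t) :=
      pullback.lift ((f ≫ h).fiberι (g t) ≫ f) (pullback.snd _ _)
        ((Category.assoc _ _ _).trans pullback.condition)
    have hφ : φ ≫ h.fiberι (g t) = (f ≫ h).fiberι (g t) ≫ f := pullback.lift_fst _ _ _
    have sqφ : IsPullback ((f ≫ h).fiberι (g t)) φ f (h.fiberι (g t)) := by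
      refine IsPullback.of_bot ?_ hφ.symm (IsPullback.of_hasPullback h k)
      rw [show φ ≫ pullback.snd h k = pullback.snd (f ≫ h) k from pullback.lift_snd _ _ _]
      exact IsPullback.of_hasPullback (f ≫ h) k
    let ρ := Spec.map (g.residueFieldMap t)
    have hρ : ρ ≫ k = T.fromSpecResidueField t ≫ g := g.SpecMap_residueFieldMap_fromSpecResidueField t
    let β : h'.fiber t ⟶ h.fiber (g t) :=
      pullback.lift (h'.fiberι t ≫ b) (pullback.snd _ _ ≫ ρ)
        ((Category.assoc _ _ _).trans <| (congrArg (h'.fiberι t ≫ ·) sqB.w).trans <|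
          (Category.assoc _ _ _).symm.trans <| (congrArg (· ≫ g) pullback.condition).trans <|
          (Category.assoc _ _ _).trans <| (congrArg (pullback.snd _ _ ≫ ·) hρ).symm.trans (Category.assoc _ _ _).symm)
    have hβ : β ≫ h.fiberι (g t) = h'.fiberι t ≫ b := pullback.lift_fst _ _ _
    have sqβ : IsPullback β (pullback.snd h' (T.fromSpecResidueField t)) (pullback.snd h k) ρ := by
      refine IsPullback.of_right ?_ (pullback.lift_snd _ _ _) (IsPullback.of_hasPullback h k)
      rw [hρ, show β ≫ pullback.fst h k = h'.fiberι t ≫ b from hβ]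
      exact (IsPullback.of_hasPullback h' (T.fromSpecResidueField t)).paste_horiz sqB
    let f't := pullback.snd f' (h'.fiberι t)
    let αt : pullback f' (h'.fiberι t) ⟶ (f ≫ h).fiber (g t) :=
      sqφ.lift (pullback.fst _ _ ≫ a) (f't ≫ β)
        (by rw [Category.assoc, sqA.w, ← Category.assoc, pullback.condition, Category.assoc,
              Category.assoc, hβ])
    have sqt : IsPullback αt f't φ β := by
      refine IsPullback.of_right ?_ (sqφ.lift_snd _ _ _) sqφ
      rw [show αt ≫ _ = pullback.fst _ _ ≫ a from sqφ.lift_fst _ _ _, hβ]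
      exact (IsPullback.of_hasPullback f' (h'.fiberι t)).paste_horiz sqA
    haveI : IsIso f't := inferInstance
    haveI : Flat ρ := inferInstance
    haveI : Surjective ρ := inferInstance
    haveI : QuasiCompact ρ := inferInstance
    haveI : IsIso φ := by
      refine MorphismProperty.of_isPullback_of_descendsAlong
        (P := MorphismProperty.isomorphisms Scheme.{u}) (Q := @Surjective ⊓ @Flat ⊓ @QuasiCompact)
        sqt.flip ⟨⟨?_, ?_⟩, ?_⟩ (show IsIso f't from inferInstance)
      · exact MorphismProperty.of_isPullback (P := @Surjective) sqβ.flip ‹_›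
      · exact MorphismProperty.of_isPullback (P := @Flat) sqβ.flip ‹_›
      · exact MorphismProperty.of_isPullback (P := @QuasiCompact) sqβ.flip ‹_›
    exact ⟨asIso φ, hφ⟩

variable {X Y S : Scheme.{u}} (gX : X ⟶ S) (gY : Y ⟶ S)

/-- The projection `(X ×_S Y) ×_S T ⟶ T ×_S X`. -/
noncomputable def pr (T : Over S) : PicF.XT (pullback.fst gX gY ≫ gX) T ⟶ pullback T.hom gX :=
  pullback.lift (pullback.snd _ _) (pullback.fst _ _ ≫ pullback.fst gX gY)
    (pullback.condition.symm.trans (Category.assoc _ _ _).symm)

theorem isPullback_pr (T : Over S) :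
    IsPullback (pr gX gY T) (pullback.fst (pullback.fst gX gY ≫ gX) T.hom) (pullback.snd T.hom gX)
      (pullback.fst gX gY) :=
  IsPullback.of_right
    (by
      rw [show pr gX gY T ≫ pullback.fst T.hom gX = pullback.snd _ _ from pullback.lift_fst _ _ _]
      exact (IsPullback.of_hasPullback (pullback.fst gX gY ≫ gX) T.hom).flip)
    (pullback.lift_snd _ _ _) (IsPullback.of_hasPullback T.hom gX)

/-- The graph of a morphism `T ×_S X ⟶ Y`. -/
noncomputable def graph {T : Over S} (a : (Flatn.morS gX gY).obj (Opposite.op T)) :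
    pullback T.hom gX ⟶ PicF.XT (pullback.fst gX gY ≫ gX) T :=
  pullback.lift
    (pullback.lift (pullback.snd T.hom gX) a.left (Over.w a).symm)
    (pullback.fst T.hom gX)
    ((pullback.lift_fst_assoc _ _ _ _).trans pullback.condition.symm)

theorem graph_pr {T : Over S} (a : (Flatn.morS gX gY).obj (Opposite.op T)) :
    graph gX gY a ≫ pr gX gY T = 𝟙 _ := by
  apply pullback.hom_ext
  · rw [Category.assoc, Category.id_comp, show pr gX gY T ≫ pullback.fst T.hom gX = pullback.snd _ _
      from pullback.lift_fst _ _ _]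
    exact pullback.lift_snd _ _ _
  · rw [Category.assoc, Category.id_comp, show pr gX gY T ≫ pullback.snd T.hom gX = _
      from pullback.lift_snd _ _ _, ← Category.assoc]
    exact (congrArg (· ≫ pullback.fst gX gY) (pullback.lift_fst _ _ _)).trans (pullback.lift_fst _ _ _)

theorem left_eq {T : Over S} (a : (Flatn.morS gX gY).obj (Opposite.op T)) :
    graph gX gY a ≫ pullback.fst _ _ ≫ pullback.snd gX gY = a.left := by
  rw [← Category.assoc]
  exact (congrArg (· ≫ pullback.snd gX gY) (pullback.lift_fst _ _ _)).trans (pullback.lift_snd _ _ _)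

theorem isClosedImmersion_graph [IsSeparated gY] {T : Over S}
    (a : (Flatn.morS gX gY).obj (Opposite.op T)) : IsClosedImmersion (graph gX gY a) := by
  haveI : IsSeparated (pr gX gY T) :=
    MorphismProperty.of_isPullback (P := @IsSeparated) (isPullback_pr gX gY T).flip
      (MorphismProperty.pullback_fst _ _ ‹_›)
  haveI : IsClosedImmersion (graph gX gY a ≫ pr gX gY T) := by rw [graph_pr]; infer_instance
  exact IsClosedImmersion.of_comp _ (pr gX gY T)

theorem exists_open [IsLocallyNoetherian S] [IsProper gX] [Flat gX] [IsSeparated gY]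
    (H : Over S) (Z : FGA.HilbSet (pullback.fst gX gY ≫ gX) H)
    (hH : FGA.HilbRepresentedBy (pullback.fst gX gY ≫ gX) H Z) :
    ∃ H₀ : H.left.Opens, ∀ (T : Over S) [IsLocallyNoetherian T.left],
      (∀ a : (Flatn.morS gX gY).obj (Opposite.op T),
        ∃! g : T ⟶ H, Set.range g.left ⊆ (H₀ : Set H.left) ∧
          FGA.hilbPull (pullback.fst gX gY ≫ gX) g Z.1 = Scheme.Hom.ker (graph gX gY a)) ∧
      (∀ g : T ⟶ H, Set.range g.left ⊆ (H₀ : Set H.left) →
        ∃! a : (Flatn.morS gX gY).obj (Opposite.op T),
          FGA.hilbPull (pullback.fst gX gY ≫ gX) g Z.1 = Scheme.Hom.ker (graph gX gY a)) := by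
  haveI := hH.1
  let k := pullback.fst gX gY ≫ gX
  let hh := pullback.fst H.hom gX
  let π := Z.1.subschemeι ≫ pr gX gY H
  haveI : IsProper hh := MorphismProperty.pullback_fst _ _ ‹_›
  haveI : LocallyOfFinitePresentation hh := inferInstance
  have hπ : π ≫ hh = Z.1.subschemeι ≫ PicF.XTproj k H :=
    (Category.assoc _ _ _).trans (congrArg (Z.1.subschemeι ≫ ·) (pullback.lift_fst _ _ _))
  haveI : IsProper (π ≫ hh) := hπ ▸ Z.2.1
  haveI : Flat (π ≫ hh) := hπ ▸ Z.2.2
  haveI : LocallyOfFinitePresentation (π ≫ hh) := inferInstance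
  obtain ⟨U, hU⟩ := exists_isoLocus π hh
  refine ⟨U, fun T _ => ?_⟩
  -- the base change along a point
  have key : ∀ g : T ⟶ H, (Set.range g.left ⊆ (U : Set H.left) ↔
      IsIso ((FGA.hilbPull k g Z.1).subschemeι ≫ pr gX gY T)) := by
    intro g
    let b : pullback T.hom gX ⟶ pullback H.hom gX :=
      pullback.map T.hom gX H.hom gX g.left (𝟙 X) (𝟙 S) (by simp [Over.w g]) (by simp)
    have sqb : IsPullback b (pullback.fst T.hom gX) hh g.left := by
      refine IsPullback.of_right ?_ (pullback.lift_fst _ _ _) (IsPullback.of_hasPullback H.hom gX).flip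
      rw [Over.w g, show b ≫ pullback.snd H.hom gX = pullback.snd T.hom gX from
        (pullback.lift_snd _ _ _).trans (Category.comp_id _)]
      exact (IsPullback.of_hasPullback T.hom gX).flip
    have hm1 : PicF.XTmap k g ≫ pullback.snd k H.hom = pullback.snd k T.hom ≫ g.left := pullback.lift_snd _ _ _
    have hm2 : PicF.XTmap k g ≫ pullback.fst k H.hom = pullback.fst k T.hom :=
      (pullback.lift_fst _ _ _).trans (Category.comp_id _)
    have sqproj : IsPullback (PicF.XTmap k g) (PicF.XTproj k T) (PicF.XTproj k H) g.left := by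
      refine IsPullback.of_right ?_ hm1 (IsPullback.of_hasPullback k H.hom)
      rw [Over.w g, hm2]
      exact IsPullback.of_hasPullback k T.hom
    have sqpr : IsPullback (PicF.XTmap k g) (pr gX gY T) (pr gX gY H) b := by
      refine IsPullback.of_bot ?_ ?_ sqb
      · rw [show pr gX gY T ≫ pullback.fst T.hom gX = PicF.XTproj k T from pullback.lift_fst _ _ _,
          show pr gX gY H ≫ hh = PicF.XTproj k H from pullback.lift_fst _ _ _]
        exact sqproj
      · apply pullback.hom_ext <;>
          simp only [pr, b, pullback.map, Category.assoc, pullback.lift_fst, pullback.lift_snd,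
            pullback.lift_fst_assoc, pullback.lift_snd_assoc, Category.comp_id]
        · exact hm1
        · rw [← Category.assoc, hm2]
    let e := asIso (pullback.snd Z.1.subschemeι (PicF.XTmap k g)).toImage
    have sqI : IsPullback (e.inv ≫ pullback.fst _ _) (FGA.hilbPull k g Z.1).subschemeι Z.1.subschemeι
        (PicF.XTmap k g) :=
      (IsPullback.of_hasPullback Z.1.subschemeι (PicF.XTmap k g)).of_iso e (Iso.refl _) (Iso.refl _) (Iso.refl _)
        (by simp) (by
          show _ ≫ 𝟙 _ = (pullback.snd Z.1.subschemeι (PicF.XTmap k g)).toImage ≫ _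
          rw [Category.comp_id]
          exact (Scheme.Hom.toImage_imageι _).symm) (by simp) (by simp)
    exact hU _ _ b (pullback.fst T.hom gX) g.left (sqI.paste_vert sqpr) sqb
  constructor
  · intro a
    haveI := isClosedImmersion_graph gX gY a
    have hp : (graph gX gY a).ker.subschemeι ≫ pr gX gY T = inv (graph gX gY a).toImage := by
      rw [← cancel_epi (graph gX gY a).toImage, IsIso.hom_inv_id, ← Category.assoc,
        Scheme.Hom.toImage_imageι, graph_pr]
    have hq : (graph gX gY a).ker.subschemeι ≫ PicF.XTproj k T =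
        inv (graph gX gY a).toImage ≫ pullback.fst T.hom gX := by
      rw [← hp, Category.assoc]
      exact congrArg _ (pullback.lift_fst _ _ _).symm
    haveI : IsProper (pullback.fst T.hom gX) := MorphismProperty.pullback_fst _ _ ‹_›
    haveI : Flat (pullback.fst T.hom gX) := MorphismProperty.pullback_fst _ _ ‹_›
    let W : FGA.HilbSet k T := ⟨(graph gX gY a).ker, by rw [hq]; exact ⟨inferInstance, inferInstance⟩⟩
    obtain ⟨g, hg, hu⟩ := hH.2 T W
    refine ⟨g, ⟨(key g).2 ?_, hg⟩, fun g' hg' => hu g' hg'.2⟩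
    rw [hg]
    show IsIso ((graph gX gY a).ker.subschemeι ≫ pr gX gY T)
    rw [hp]
    infer_instance
  · intro g hg
    have hiso := (key g).1 hg
    let I := FGA.hilbPull k g Z.1
    let p := I.subschemeι ≫ pr gX gY T
    haveI : IsIso p := hiso
    let γ := inv p ≫ I.subschemeι
    have hγ : γ ≫ pr gX gY T = 𝟙 _ := by simp [γ, p]
    have hγ1 : γ ≫ pullback.fst _ _ ≫ pullback.fst gX gY = pullback.snd T.hom gX := by
      have := congrArg (· ≫ pullback.snd T.hom gX) hγ
      rw [Category.assoc, Category.id_comp, show pr gX gY T ≫ pullback.snd T.hom gX = _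
        from pullback.lift_snd _ _ _] at this
      exact this
    let a : (Flatn.morS gX gY).obj (Opposite.op T) :=
      Over.homMk (γ ≫ pullback.fst _ _ ≫ pullback.snd gX gY) (by
        show (γ ≫ pullback.fst _ _ ≫ pullback.snd gX gY) ≫ gY = pullback.snd T.hom gX ≫ gX
        rw [← hγ1]; simp only [Category.assoc, pullback.condition])
    have hγeq : graph gX gY a = γ := by
      apply (isPullback_pr gX gY T).hom_ext
      · rw [graph_pr, hγ]
      · apply pullback.hom_ext
        · rw [Category.assoc, Category.assoc, hγ1, ← Category.assoc]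
          exact (congrArg (· ≫ pullback.fst gX gY) (pullback.lift_fst _ _ _)).trans (pullback.lift_fst _ _ _)
        · rw [Category.assoc, left_eq gX gY a, Category.assoc]
          rfl
    refine ⟨a, ?_, fun a' ha' => ?_⟩
    · show I = _
      rw [hγeq, Scheme.Hom.ker_comp_of_isIso]
      exact (Scheme.IdealSheafData.ker_subschemeι I).symm
    · haveI := isClosedImmersion_graph gX gY a'
      haveI := isClosedImmersion_graph gX gY a
      have hker : (graph gX gY a').ker = (graph gX gY a).ker := by
        rw [← ha', hγeq, Scheme.Hom.ker_comp_of_isIso]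
        exact (Scheme.IdealSheafData.ker_subschemeι I).symm
      let i := (graph gX gY a).toImage
      let e : pullback T.hom gX ⟶ pullback T.hom gX :=
        IsClosedImmersion.lift (graph gX gY a) (graph gX gY a') hker.ge
      have he : e ≫ graph gX gY a = graph gX gY a' := IsClosedImmersion.lift_fac _ _ _
      have he1 : e = 𝟙 _ := by
        have := congrArg (· ≫ pr gX gY T) he
        rw [Category.assoc, graph_pr, graph_pr, Category.comp_id] at this
        exact this
      rw [he1, Category.id_comp] at he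
      exact Over.OverMorphism.ext (by rw [← left_eq gX gY a', ← left_eq gX gY a, he])

end Groth.Agent.Lib.MorHilb53
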